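import Mathlib.AlgebraicGeometry.SpreadingOut
import Mathlib.AlgebraicGeometry.Morphisms.FiniteType

/-!
Uniqueness of spreading out for targets locally of finite type, without germ injectivity.
-/

universe u

open CategoryTheory AlgebraicGeometry TopologicalSpace

namespace Groth.Agent.RatMapH11

variable {X Y S : Scheme.{u}}

theorem spread_out_unique_of_finiteType (sY : Y ⟶ S) [LocallyOfFiniteType sY] (f g : X ⟶ Y)
    (hfg : f ≫ sY = g ≫ sY) (x : X) (e : X.fromSpecStalk x ≫ f = X.fromSpecStalk x ≫ g) :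
    ∃ U : X.Opens, x ∈ U ∧ U.ι ≫ f = U.ι ≫ g := by
  classical
  have ex : f x = g x := by simpa using congr($e (IsLocalRing.closedPoint _))
  have H : f.stalkMap x =
      Y.presheaf.stalkSpecializes (Inseparable.of_eq ex.symm).specializes ≫ g.stalkMap x := by
    apply Spec.map_injective
    rw [← cancel_mono (Y.fromSpecStalk _)]
    simpa [Scheme.SpecMap_stalkSpecializes_fromSpecStalk]
  obtain ⟨U₀, hU₀, hxU₀, -⟩ := exists_isAffineOpen_mem_and_subset (show sY (f x) ∈ (⊤ : S.Opens) from trivial)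
  obtain ⟨V, hV, hxV, hVU⟩ := exists_isAffineOpen_mem_and_subset (show f x ∈ sY ⁻¹ᵁ U₀ from hxU₀)
  have hxV' : g x ∈ V := ex ▸ hxV
  let W₀ := f ⁻¹ᵁ V ⊓ g ⁻¹ᵁ V
  have hW₀ : x ∈ W₀ := ⟨hxV, hxV'⟩
  let φ := f.appLE V W₀ inf_le_left
  let ψ := g.appLE V W₀ inf_le_right
  have hgerm : φ ≫ X.presheaf.germ W₀ x hW₀ = ψ ≫ X.presheaf.germ W₀ x hW₀ := by
    simp only [φ, ψ, Scheme.Hom.appLE, Category.assoc, X.presheaf.germ_res', ← Scheme.Hom.germ_stalkMap, H]
    simp only [TopCat.Presheaf.germ_stalkSpecializes_assoc, Scheme.Hom.germ_stalkMap]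
  have hfin := LocallyOfFiniteType.finiteType_appLE sY hU₀ hV hVU
  let := (sY.appLE U₀ V hVU).hom.toAlgebra
  obtain ⟨s, hs⟩ := hfin
  have hloc : ∀ t : Γ(Y, V), ∃ (W : X.Opens) (_ : x ∈ W) (i : W ≤ W₀),
      X.presheaf.map (homOfLE i).op (φ t) = X.presheaf.map (homOfLE i).op (ψ t) := by
    intro t
    obtain ⟨W, hW, iU, iV, h⟩ := X.presheaf.germ_eq x hW₀ hW₀ (φ t) (ψ t)
      (ConcreteCategory.congr_hom hgerm t)
    exact ⟨W, hW, leOfHom iU, h⟩
  choose W hW hle hres using hloc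
  let U := s.inf W ⊓ W₀
  have hxU : x ∈ U := by
    refine ⟨?_, hW₀⟩
    rw [Opens.coe_finset_inf]
    simpa using fun t _ => hW t
  refine ⟨U, hxU, ?_⟩
  have hUf : U ≤ f ⁻¹ᵁ V := inf_le_right.trans inf_le_left
  have hUg : U ≤ g ⁻¹ᵁ V := inf_le_right.trans inf_le_right
  rw [← Scheme.Hom.resLE_comp_ι _ hUf, ← Scheme.Hom.resLE_comp_ι _ hUg]
  congr 1
  have : IsAffine V := hV
  suffices ∀ (U₁ V₁) (eU : U = U₁) (eV : V = V₁),
      f.appLE V₁ U₁ (eU ▸ eV ▸ hUf) = g.appLE V₁ U₁ (eU ▸ eV ▸ hUg) by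
    rw [← cancel_mono V.toScheme.isoSpec.hom]
    simp only [Scheme.isoSpec, asIso_hom, Scheme.toSpecΓ_naturality,
      Scheme.Hom.app_eq_appLE, Scheme.Hom.resLE_appLE]
    congr 2
    apply this <;> simp
  rintro _ _ rfl rfl
  let := (f.appLE V U hUf).hom.toAlgebra
  ext t
  have ht : t ∈ Algebra.adjoin Γ(S, U₀) (s : Set Γ(Y, V)) := by rw [hs]; trivial
  induction ht using Algebra.adjoin_induction with
  | mem t ht =>
    have hUt : U ≤ W t := inf_le_left.trans (Finset.inf_le ht)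
    have h2 := congrArg (X.presheaf.map (homOfLE hUt).op) (hres t)
    simp only [φ, ψ, ← CommRingCat.comp_apply, Scheme.Hom.appLE_map, Category.assoc, ← Functor.map_comp] at h2
    exact h2
  | algebraMap c =>
    show (sY.appLE U₀ V hVU ≫ f.appLE V U hUf) c = (sY.appLE U₀ V hVU ≫ g.appLE V U hUg) c
    simp only [Scheme.Hom.appLE_comp_appLE, hfg]
  | add a b _ _ ha hb => rw [map_add, map_add, ha, hb]
  | mul a b _ _ ha hb => rw [map_mul, map_mul, ha, hb]

end Groth.Agent.RatMapH11
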