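import Groth.Agent.Lib.RatMapH11.SpreadUniq

/-!
Uniqueness of spreading out on open subschemes.
-/

universe u

open CategoryTheory AlgebraicGeometry TopologicalSpace

namespace Groth.Agent.RatMapH11

variable {X Y S : Scheme.{u}}

theorem exists_open_eq_of_fromSpecStalkOfMem_eq (sY : Y ⟶ S) [LocallyOfFiniteType sY] (O : X.Opens)
    (a b : (O : Scheme.{u}) ⟶ Y) (hab : a ≫ sY = b ≫ sY) (x : X) (hx : x ∈ O)
    (h : O.fromSpecStalkOfMem x hx ≫ a = O.fromSpecStalkOfMem x hx ≫ b) :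
    ∃ (W : X.Opens) (hW : W ≤ O), x ∈ W ∧ X.homOfLE hW ≫ a = X.homOfLE hW ≫ b := by
  have h' : (O : Scheme.{u}).fromSpecStalk ⟨x, hx⟩ ≫ a = (O : Scheme.{u}).fromSpecStalk ⟨x, hx⟩ ≫ b := by
    simpa only [Scheme.Opens.fromSpecStalkOfMem, Spec.map_inv, Category.assoc, IsIso.eq_inv_comp,
      IsIso.hom_inv_id_assoc] using h
  obtain ⟨U, hxU, hU⟩ := spread_out_unique_of_finiteType sY a b hab ⟨x, hx⟩ h'
  refine ⟨O.ι ''ᵁ U, (Set.image_subset_range _ _).trans_eq (Subtype.range_val), ⟨_, hxU, rfl⟩, ?_⟩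
  rw [← cancel_epi (Scheme.Hom.isoImage _ _).hom]
  simp only [← Category.assoc] at hU ⊢
  convert! hU using 2 <;> rw [← cancel_mono (Scheme.Opens.ι _)] <;> simp

end Groth.Agent.RatMapH11
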